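import Cfsg.Agent.Lib.ThreeT.F24.InvC
import Cfsg.Agent.Lib.ThreeT.M24b
import Cfsg.Agent.S5398

/-!
# Involutions of a group of type M(24), from the involutions one level down
-/

set_option autoImplicit false
set_option linter.unusedSectionVars false
set_option linter.unusedVariables false
set_option linter.style.longLine false
set_option linter.unusedSimpArgs false
set_option linter.unnecessarySimpa false
set_option linter.style.haveILetI false

namespace Cfsg.Agent.Lib.ThreeT.F24.InvD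

open Cfsg Cfsg.Agent.Lib.ThreeT.Basic Cfsg.Agent.Lib.ThreeT.Class Cfsg.Agent.Lib.ThreeT.Relations
open Cfsg.Agent.Lib.ThreeT.Rank3 Cfsg.Agent.Lib.ThreeT.Descent Cfsg.Agent.Lib.ThreeT.NoSix
open Cfsg.Agent.Lib.ThreeT.M23 Cfsg.Agent.Lib.ThreeT.M22 Cfsg.Agent.Lib.ThreeT.M24
open Cfsg.Agent.Lib.ThreeT.F24.InvC

/-- The products of `m` distinct commuting members. -/
def PP {G : Type*} [Group G] (D : Set G) (m : ℕ) (x : G) : Prop :=
  ∃ l : List G, l.Nodup ∧ l.length = m ∧ (∀ a ∈ l, a ∈ D) ∧ (∀ a ∈ l, ∀ b ∈ l, Commute a b) ∧ l.prod = x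

section basics

variable {G : Type*} [Group G] {D : Set G}

theorem PP.conj (hc : ∀ g : G, ∀ e ∈ D, g * e * g⁻¹ ∈ D) {m : ℕ} {x : G} (h : PP D m x) (g : G) : PP D m (g * x * g⁻¹) := by
  obtain ⟨l, h1, h2, h3, h4, rfl⟩ := h
  have hinj : Function.Injective (fun x : G => g * x * g⁻¹) := by
    intro a b hab
    simpa using hab
  refine ⟨l.map (fun x => g * x * g⁻¹), (List.nodup_map_iff hinj).2 h1, by simp [h2], ?_, ?_, prod_map_conj g l⟩
  · intro a ha
    obtain ⟨y, hy, rfl⟩ := List.mem_map.1 ha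
    exact hc g y (h3 y hy)
  · intro a ha b hb
    obtain ⟨y, hy, rfl⟩ := List.mem_map.1 ha
    obtain ⟨z, hz, rfl⟩ := List.mem_map.1 hb
    exact (h4 y hy z hz).map (MulAut.conj g).toMonoidHom

/-- Parity. -/
theorem prod_mem_iff {L : Subgroup G} (hL : L.index = 2) (hDL : ∀ d ∈ D, d ∉ L) {l : List G} (hl : ∀ a ∈ l, a ∈ D) :
    l.prod ∈ L ↔ Even l.length := by
  induction l with
  | nil => simp [Subgroup.one_mem]
  | cons a l ih =>
    have h1 := ih (fun b hb => hl b (List.mem_cons_of_mem _ hb))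
    have h2 := hDL a (hl a (by simp))
    rw [List.prod_cons, Subgroup.mul_mem_iff_of_index_two hL, h1, List.length_cons]
    simp only [h2, false_iff, Nat.even_add_one]

theorem PP.parity {L : Subgroup G} (hL : L.index = 2) (hDL : ∀ d ∈ D, d ∉ L) {m : ℕ} {x : G} (h : PP D m x) : x ∈ L ↔ Even m := by
  obtain ⟨l, -, rfl, h3, -, rfl⟩ := h
  exact prod_mem_iff hL hDL h3

/-- The product of commuting involutions has order two or is trivial. -/
theorem prod_sq (hD : IsThreeTranspositionSet D) {l : List G} (h3 : ∀ a ∈ l, a ∈ D) (h4 : ∀ a ∈ l, ∀ b ∈ l, Commute a b) :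
    l.prod * l.prod = 1 := by
  induction l with
  | nil => simp
  | cons a l ih =>
    have h1 := ih (fun b hb => h3 b (List.mem_cons_of_mem _ hb))
      (fun b hb c hc => h4 b (List.mem_cons_of_mem _ hb) c (List.mem_cons_of_mem _ hc))
    have h2 : Commute a l.prod := Commute.list_prod_right _ _ (fun b hb => h4 a (by simp) b (List.mem_cons_of_mem _ hb))
    rw [List.prod_cons]
    calc a * l.prod * (a * l.prod) = a * (l.prod * a) * l.prod := by group
      _ = a * (a * l.prod) * l.prod := by rw [h2.symm.eq]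
      _ = (a * a) * (l.prod * l.prod) := by group
      _ = 1 := by rw [mul_self_of_mem hD (h3 a (by simp)), h1, one_mul]

end basics

section main

variable {G : Type*} [Group G] [Finite G] {D : Set G}
variable {K : Type*} [Field K] [Fintype K] [hK : Fact (Fintype.card K = 4)]
variable {d₁ : G} {d₂ : Gd D d₁ ⧸ Subgroup.center (Gd D d₁)}

/-- **No relations of length at most six.** -/
theorem no_rel_six (P : Pk4 D d₁ d₂ K) {l : List G} (hl : IsRel D l) (hne : l ≠ []) (hlen : l.length ≤ 6) : False := by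
  have hlen1 : l.length ≠ 0 := fun h => hne (List.length_eq_zero_iff.1 h)
  by_cases h1 : l.length = 1
  · obtain ⟨u, rfl⟩ := List.length_eq_one_iff.1 h1
    have hu := hl.mem u (by simp)
    have h3 := hl.prod
    simp at h3
    exact ne_one_of_mem P.hG.1 hu h3
  by_cases h6 : l.length = 6
  · obtain ⟨l', hl', hlen'⟩ := descend_len P.hG P.hp P.hd₁ P.hNC hl (n := 5) h6
    obtain ⟨l'', hl'', hlen''⟩ := descend_len P.P.hG P.P.hp P.P.hd₁ P.P.hNC hl' (n := 4) hlen'
    refine no_short_rel P.P.hG₂.1 P.P.hG₂.2.1 P.P.hG₂.2.2 P.P.hZ₂ P.P.c₂ hl'' ?_ (by omega)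
    intro h0
    rw [h0] at hlen''
    simp at hlen''
  · obtain ⟨n, hn⟩ : ∃ n, l.length = n + 1 := ⟨l.length - 1, by omega⟩
    obtain ⟨l', hl', hlen'⟩ := descend_len P.hG P.hp P.hd₁ P.hNC hl hn
    refine no_short_rel P.hG₁.1 P.hG₁.2.1 P.hG₁.2.2 P.hZ₁ P.c₂ hl' ?_ (by omega)
    intro h0
    rw [h0] at hlen'
    simp at hlen'
    omega

open scoped _root_.Classical in
/-- **The length is determined.** -/
theorem uniq_aux (P : Pk4 D d₁ d₂ K) {L : Subgroup G} (hL : L.index = 2) (hDL : ∀ d ∈ D, d ∉ L) {m m' : ℕ} {x : G}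
    (hm : 1 ≤ m) (hmm : m < m') (hm' : m' ≤ 4) (h : PP D m x) (h' : PP D m' x) : False := by
  have hD := P.hG
  have hpar : (Even m ↔ Even m') := by
    rw [← h.parity hL hDL, ← h'.parity hL hDL]
  have hcases : (m = 1 ∧ m' = 3) ∨ (m = 2 ∧ m' = 4) := by
    rw [Nat.even_iff, Nat.even_iff] at hpar
    omega
  obtain ⟨l, hnd, hlen, hlD, hlc, hlp⟩ := h
  obtain ⟨T', hnd', hlen', hlD', hlc', hlp'⟩ := h'
  set S := l.toFinset with hSd
  set T := T'.toFinset with hTd
  have hS1 : S.card = m := by rw [hSd, List.toFinset_card_of_nodup hnd, hlen]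
  have hT1 : T.card = m' := by rw [hTd, List.toFinset_card_of_nodup hnd', hlen']
  have hS2 : ∀ a ∈ S, a ∈ D := fun a ha => hlD a (by simpa [hSd] using ha)
  have hT2 : ∀ a ∈ T, a ∈ D := fun a ha => hlD' a (by simpa [hTd] using ha)
  have hS3 : ∀ a ∈ S, ∀ b ∈ S, Commute a b := fun a ha b hb => hlc a (by simpa [hSd] using ha) b (by simpa [hSd] using hb)
  have hT3 : ∀ a ∈ T, ∀ b ∈ T, Commute a b := fun a ha b hb => hlc' a (by simpa [hTd] using ha) b (by simpa [hTd] using hb)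
  have hS4 : prd S = x := by
    rw [prd_eq_of_list hnd (fun a => by simp [hSd]) hS3, hlp]
  have hT4 : prd T = x := by
    rw [prd_eq_of_list hnd' (fun a => by simp [hTd]) hT3, hlp']
  have hcx : ∀ t ∈ T, Commute t x := by
    intro t ht
    rw [← hT4]
    exact (prd_comm (fun a ha => hT3 a ha t ht)).symm
  have hcs : ∀ t ∈ T, ∀ a ∈ S, Commute t a := by
    intro t ht a ha
    have hml : a ∈ l := by simpa [hSd] using ha
    rcases hcases with ⟨rfl, -⟩ | ⟨rfl, -⟩
    · obtain ⟨a', rfl⟩ := List.length_eq_one_iff.1 hlen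
      have : a = a' := by simpa using hml
      subst this
      simpa [← hlp] using hcx t ht
    · obtain ⟨a', b', rfl⟩ := List.length_eq_two.1 hlen
      have hab : a' ≠ b' := by simpa using hnd
      have hc' : Commute a' b' := hlc a' (by simp) b' (by simp)
      have h4 : Commute t (a' * b') := by simpa [← hlp] using hcx t ht
      obtain ⟨h5, h6⟩ := comm_two hD.1 (hlD a' (by simp)) (hlD b' (by simp)) (hT2 t ht) hab hc' h4
      have : a = a' ∨ a = b' := by simpa using hml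
      rcases this with rfl | rfl
      · exact h5
      · exact h6
  have hc : ∀ a ∈ S ∪ T, ∀ b ∈ S ∪ T, Commute a b := by
    intro a ha b hb
    rcases Finset.mem_union.1 ha with h1 | h1 <;> rcases Finset.mem_union.1 hb with h2 | h2
    · exact hS3 a h1 b h2
    · exact (hcs b h2 a h1).symm
    · exact hcs a h1 b h2
    · exact hT3 a h1 b h2
  have hR := Cfsg.Agent.S5398.sdiff_rel hD.1 hS2 hT2 hc (hS4.trans hT4.symm)
  have hne : ((S \ T) ∪ (T \ S)).Nonempty := by
    by_contra hcon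
    rw [Finset.not_nonempty_iff_eq_empty] at hcon
    have h1 : T \ S = ∅ := by
      apply Finset.eq_empty_of_forall_notMem
      intro a ha
      have : a ∈ (S \ T) ∪ (T \ S) := Finset.mem_union_right _ ha
      rw [hcon] at this
      simp at this
    have h2 : T ⊆ S := Finset.sdiff_eq_empty_iff_subset.1 h1
    have := Finset.card_le_card h2
    omega
  have h7 : ((S \ T) ∪ (T \ S)).card ≤ S.card + T.card :=
    (Finset.card_union_le _ _).trans (Nat.add_le_add (Finset.card_le_card Finset.sdiff_subset) (Finset.card_le_card Finset.sdiff_subset))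
  refine no_rel_six P hR.toRel ?_ ?_
  · simpa using hne.ne_empty
  · have h8 := hR.toRel
    have : (((S \ T) ∪ (T \ S)).toList).length = ((S \ T) ∪ (T \ S)).card := by simp
    rw [this]
    rcases hcases with ⟨rfl, rfl⟩ | ⟨rfl, rfl⟩ <;> omega

/-- Lifting a list of members of the level below. -/
theorem exists_lift {lb : List (Gd D d₁ ⧸ Subgroup.center (Gd D d₁))} (h : ∀ a ∈ lb, a ∈ Dq D d₁) :
    ∃ l : List G, (∀ u ∈ l, u ∈ Da D d₁) ∧ l.map (phi D d₁) = lb := by
  induction lb with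
  | nil => exact ⟨[], by simp, rfl⟩
  | cons a lb ih =>
    obtain ⟨l, h1, h2⟩ := ih (fun b hb => h b (List.mem_cons_of_mem _ hb))
    obtain ⟨u, hu, rfl⟩ := exists_phi (h a (by simp))
    refine ⟨u :: l, ?_, by simp [h2]⟩
    intro v hv
    rcases List.mem_cons.1 hv with rfl | hv
    · exact hu
    · exact h1 v hv

theorem PP_push (P : Pk4 D d₁ d₂ K) {l : List G} (hnd : l.Nodup) (hDa : ∀ u ∈ l, u ∈ Da D d₁) (hc : ∀ a ∈ l, ∀ b ∈ l, Commute a b) :
    PP (Dq D d₁) l.length (phi D d₁ l.prod) := by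
  refine ⟨l.map (phi D d₁), ?_, by simp, ?_, ?_, ?_⟩
  · rw [List.nodup_map_iff_inj_on hnd]
    intro a ha b hb h
    exact phi_inj P.hG.1 P.hNC (hDa a ha) (hDa b hb) h
  · intro a ha
    obtain ⟨y, hy, rfl⟩ := List.mem_map.1 ha
    exact phi_mem (hDa y hy)
  · intro a ha b hb
    obtain ⟨y, hy, rfl⟩ := List.mem_map.1 ha
    obtain ⟨z, hz, rfl⟩ := List.mem_map.1 hb
    exact (phi_comm P.hG.1 (hDa y hy) (hDa z hz)).2 (hc y hy z hz)
  · exact (phi_list_prod (fun a ha => Subgroup.subset_closure (hDa a ha))).symm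

/-- Elements of `⟨D_d⟩` with the same image. -/
theorem eq_of_phi (P : Pk4 D d₁ d₂ K) {u v : G} (hu : u ∈ Subgroup.closure (Da D d₁)) (hv : v ∈ Subgroup.closure (Da D d₁))
    (h : phi D d₁ u = phi D d₁ v) : u = v ∨ u = v * d₁ := by
  have e1 : phi D d₁ u = QuotientGroup.mk (⟨u, hu⟩ : Gd D d₁) := phi_eq_of_coe rfl
  have e2 : phi D d₁ v = QuotientGroup.mk (⟨v, hv⟩ : Gd D d₁) := phi_eq_of_coe rfl
  rw [e1, e2] at h
  have h3 := QuotientGroup.eq.1 h.symm
  rcases P.eq_of_central h3 with h4 | h4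
  · left
    have h5 : v⁻¹ * u = 1 := h4
    exact (eq_of_inv_mul_eq_one h5).symm
  · right
    have h5 : v⁻¹ * u = d₁ := h4
    rw [← h5]
    group

variable (hL : (commutator G).index = 2) (hDL : ∀ d ∈ D, d ∉ commutator G)
  (hcl : Subgroup.centralizer ({d₁} : Set G) = Subgroup.closure (Da D d₁))
  (hC1 : ∀ x : Gd D d₁ ⧸ Subgroup.center (Gd D d₁), orderOf x = 2 → ∃ m, 1 ≤ m ∧ m ≤ 3 ∧ PP (Dq D d₁) m x)
  (hC2 : ∀ m, 1 ≤ m → m ≤ 3 → ∀ x y : Gd D d₁ ⧸ Subgroup.center (Gd D d₁), PP (Dq D d₁) m x → PP (Dq D d₁) m y → IsConj x y)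

include hcl hC1 in
/-- **Each involution is a product of at most four commuting members.** -/
theorem exists_PP (P : Pk4 D d₁ d₂ K) {x : G} (hxx : x * x = 1) (hx1 : x ≠ 1) : ∃ m, 1 ≤ m ∧ m ≤ 4 ∧ PP D m x := by
  have hc := P.hG.2.1
  have hD := P.hG.1
  obtain ⟨y, hy, hxy⟩ := exists_comm P hxx
  obtain ⟨g, hg⟩ := P.hp.1 y hy d₁ P.hd₁
  suffices hs : ∃ m, 1 ≤ m ∧ m ≤ 4 ∧ PP D m (g * x * g⁻¹) by
    obtain ⟨m, h1, h2, h3⟩ := hs
    refine ⟨m, h1, h2, ?_⟩
    have := h3.conj hc g⁻¹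
    have e : g⁻¹ * (g * x * g⁻¹) * g⁻¹⁻¹ = x := by group
    rwa [e] at this
  set x' := g * x * g⁻¹ with hx'
  have hx'x' : x' * x' = 1 := by
    calc x' * x' = g * (x * x) * g⁻¹ := by rw [hx']; group
      _ = 1 := by rw [hxx]; group
  have hx'1 : x' ≠ 1 := by
    intro h
    apply hx1
    have : x = g⁻¹ * x' * g := by rw [hx']; group
    rw [this, h]
    group
  have hcomm : Commute x' d₁ := by
    have := hxy.map (MulAut.conj g).toMonoidHom
    have e1 : (MulAut.conj g).toMonoidHom x = x' := rfl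
    have e2 : (MulAut.conj g).toMonoidHom y = d₁ := hg
    rwa [e1, e2] at this
  have hmem : x' ∈ Subgroup.closure (Da D d₁) := by
    rw [← hcl, Subgroup.mem_centralizer_singleton_iff]
    exact hcomm.eq
  have hPh : PP D 1 d₁ := ⟨[d₁], by simp, by simp, by simpa using P.hd₁, by simp, by simp⟩
  by_cases hbar : phi D d₁ x' = 1
  · have e1 : phi D d₁ 1 = 1 := by
      have : phi D d₁ 1 = QuotientGroup.mk (1 : Gd D d₁) := phi_eq_of_coe rfl
      rw [this]
      rfl
    rcases eq_of_phi P hmem (Subgroup.one_mem _) (by rw [hbar, e1]) with h | h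
    · exact absurd h hx'1
    · rw [one_mul] at h
      exact ⟨1, le_refl _, by norm_num, by rw [h]; exact hPh⟩
  · have hbar2 : phi D d₁ x' * phi D d₁ x' = 1 := by
      rw [← phi_mul hmem hmem, hx'x']
      have : phi D d₁ 1 = QuotientGroup.mk (1 : Gd D d₁) := phi_eq_of_coe rfl
      rw [this]
      rfl
    have hord : orderOf (phi D d₁ x') = 2 := by
      haveI : Fact (Nat.Prime 2) := ⟨Nat.prime_two⟩
      exact orderOf_eq_prime (by rw [pow_two]; exact hbar2) hbar
    obtain ⟨m, hm1, hm3, lb, h1, h2, h3, h4, h5⟩ := hC1 _ hord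
    obtain ⟨l, hl1, rfl⟩ := exists_lift h3
    have hnd : l.Nodup := List.Nodup.of_map _ h1
    have hcm : ∀ a ∈ l, ∀ b ∈ l, Commute a b := by
      intro a ha b hb
      exact (phi_comm hD (hl1 a ha) (hl1 b hb)).1 (h4 _ (List.mem_map_of_mem ha) _ (List.mem_map_of_mem hb))
    have hcl' : ∀ a ∈ l, a ∈ Subgroup.closure (Da D d₁) := fun a ha => Subgroup.subset_closure (hl1 a ha)
    have hprod := phi_list_prod (D := D) (d₁ := d₁) hcl'
    rw [h5] at hprod
    have hmemp : l.prod ∈ Subgroup.closure (Da D d₁) := Subgroup.list_prod_mem _ hcl'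
    have hlen : l.length = m := by simpa using h2
    have hP1 : PP D m l.prod := ⟨l, hnd, hlen, fun a ha => (hl1 a ha).1, hcm, rfl⟩
    have hdc : ∀ a ∈ l, Commute d₁ a := fun a ha => (hl1 a ha).2.2
    have hP2 : PP D (m + 1) (d₁ * l.prod) := by
      refine ⟨d₁ :: l, ?_, by simp [hlen], ?_, ?_, by simp⟩
      · rw [List.nodup_cons]
        exact ⟨fun h => (hl1 d₁ h).2.1 rfl, hnd⟩
      · intro a ha
        rcases List.mem_cons.1 ha with rfl | ha
        · exact P.hd₁
        · exact (hl1 a ha).1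
      · intro a ha b hb
        by_cases h7 : a = d₁ <;> by_cases h8 : b = d₁
        · rw [h7, h8]
        · rw [h7]
          exact hdc b ((List.mem_cons.1 hb).resolve_left h8)
        · rw [h8]
          exact (hdc a ((List.mem_cons.1 ha).resolve_left h7)).symm
        · exact hcm a ((List.mem_cons.1 ha).resolve_left h7) b ((List.mem_cons.1 hb).resolve_left h8)
    rcases eq_of_phi P hmem hmemp hprod.symm with h | h
    · exact ⟨m, hm1, by omega, by rw [h]; exact hP1⟩
    · refine ⟨m + 1, by omega, by omega, ?_⟩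
      rw [h]
      have e : Commute l.prod d₁ := (Commute.list_prod_right _ _ hdc).symm
      rw [e.eq]
      exact hP2

include hL hDL hC2 in
/-- Conjugacy in the case through `d₁`. -/
theorem conj_aux (P : Pk4 D d₁ d₂ K) {t t' : List G} (hnd : t.Nodup) (hnd' : t'.Nodup) (hDa : ∀ u ∈ t, u ∈ Da D d₁) (hDa' : ∀ u ∈ t', u ∈ Da D d₁)
    (hc : ∀ a ∈ t, ∀ b ∈ t, Commute a b) (hc' : ∀ a ∈ t', ∀ b ∈ t', Commute a b) (hlen : t.length = t'.length) (h3 : t.length ≤ 3) :
    IsConj (d₁ * t.prod) (d₁ * t'.prod) := by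
  by_cases h0 : t.length = 0
  · have e1 : t = [] := List.length_eq_zero_iff.1 h0
    have e2 : t' = [] := List.length_eq_zero_iff.1 (by omega)
    rw [e1, e2]
  have hcl : ∀ a ∈ t, a ∈ Subgroup.closure (Da D d₁) := fun a ha => Subgroup.subset_closure (hDa a ha)
  have hcl' : ∀ a ∈ t', a ∈ Subgroup.closure (Da D d₁) := fun a ha => Subgroup.subset_closure (hDa' a ha)
  have hm : t.prod ∈ Subgroup.closure (Da D d₁) := Subgroup.list_prod_mem _ hcl
  have hm' : t'.prod ∈ Subgroup.closure (Da D d₁) := Subgroup.list_prod_mem _ hcl'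
  have h1 := PP_push P hnd hDa hc
  have h2 := PP_push P hnd' hDa' hc'
  rw [← hlen] at h2
  have h4 := hC2 t.length (by omega) h3 _ _ h1 h2
  obtain ⟨cb, hcb⟩ := isConj_iff.1 h4
  obtain ⟨c, rfl⟩ := QuotientGroup.mk_surjective cb
  have hcm : (c : G) * t.prod * (c : G)⁻¹ ∈ Subgroup.closure (Da D d₁) :=
    Subgroup.mul_mem _ (Subgroup.mul_mem _ c.2 hm) (Subgroup.inv_mem _ c.2)
  have e1 : phi D d₁ ((c : G) * t.prod * (c : G)⁻¹) = phi D d₁ t'.prod := by
    rw [← hcb]
    have a1 : phi D d₁ ((c : G) * t.prod * (c : G)⁻¹) = QuotientGroup.mk (c * (⟨t.prod, hm⟩ : Gd D d₁) * c⁻¹) := phi_eq_of_coe rfl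
    have a2 : phi D d₁ t.prod = QuotientGroup.mk (⟨t.prod, hm⟩ : Gd D d₁) := phi_eq_of_coe rfl
    rw [a1, a2]
    rfl
  have hpp : Even t.length ↔ Even t'.length := by rw [hlen]
  have hpar1 : t.prod ∈ commutator G ↔ Even t.length := prod_mem_iff hL hDL (fun a ha => (hDa a ha).1)
  have hpar2 : t'.prod ∈ commutator G ↔ Even t'.length := prod_mem_iff hL hDL (fun a ha => (hDa' a ha).1)
  have hcd : Commute d₁ (c : G) := commute_of_mem_closure (fun u hu => hu.2.2) c.2
  rcases eq_of_phi P hcm hm' e1 with h | h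
  · rw [isConj_iff]
    refine ⟨c, ?_⟩
    rw [← h]
    have e : (c : G) * d₁ * (c : G)⁻¹ = d₁ := by rw [hcd.symm.eq]; group
    calc (c : G) * (d₁ * t.prod) * (c : G)⁻¹ = ((c : G) * d₁ * (c : G)⁻¹) * ((c : G) * t.prod * (c : G)⁻¹) := by group
      _ = d₁ * ((c : G) * t.prod * (c : G)⁻¹) := by rw [e]
  · exfalso
    have hn := (inferInstance : (commutator G).Normal)
    have h5 : (c : G) * t.prod * (c : G)⁻¹ ∈ commutator G ↔ t.prod ∈ commutator G := by
      constructor
      · intro h6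
        have := hn.conj_mem _ h6 (c : G)⁻¹
        have e : (c : G)⁻¹ * ((c : G) * t.prod * (c : G)⁻¹) * (c : G)⁻¹⁻¹ = t.prod := by group
        rwa [e] at this
      · intro h6
        exact hn.conj_mem _ h6 _
    rw [h, Subgroup.mul_mem_iff_of_index_two hL] at h5
    have hd := hDL d₁ P.hd₁
    simp only [hd, iff_false] at h5
    have h6 := hpar1.symm.trans (h5.symm.trans (not_congr hpar2))
    rw [hlen] at h6
    exact (iff_not_self h6).elim

include hL hDL hC2 in
/-- **Conjugacy.** -/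
theorem conj_PP (P : Pk4 D d₁ d₂ K) {m : ℕ} (hm1 : 1 ≤ m) (hm4 : m ≤ 4) {x y : G} (hx : PP D m x) (hy : PP D m y) : IsConj x y := by
  have hc := P.hG.2.1
  have key : ∀ {z : G}, PP D m z → ∃ g : G, ∃ t : List G, t.Nodup ∧ (∀ u ∈ t, u ∈ Da D d₁) ∧ (∀ a ∈ t, ∀ b ∈ t, Commute a b) ∧ t.length + 1 = m ∧
      g * z * g⁻¹ = d₁ * t.prod := by
    rintro z ⟨l, h1, h2, h3, h4, rfl⟩
    obtain ⟨s, t, rfl⟩ : ∃ s t, l = s :: t := by
      cases l with
      | nil => simp at h2; omega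
      | cons s t => exact ⟨s, t, rfl⟩
    have hs := h3 s (by simp)
    obtain ⟨g, hg⟩ := P.hp.1 s hs d₁ P.hd₁
    rw [List.nodup_cons] at h1
    have hinj : Function.Injective (fun x : G => g * x * g⁻¹) := by
      intro a b hab
      simpa using hab
    refine ⟨g, t.map (fun x => g * x * g⁻¹), (List.nodup_map_iff hinj).2 h1.2, ?_, ?_, ?_, ?_⟩
    · intro u hu
      obtain ⟨v, hv, rfl⟩ := List.mem_map.1 hu
      have h5 : v ∈ Da D s := ⟨h3 v (List.mem_cons_of_mem _ hv), fun h => h1.1 (h ▸ hv), h4 s (by simp) v (List.mem_cons_of_mem _ hv)⟩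
      have h6 := mem_Da_conj hc g h5
      rwa [hg] at h6
    · intro a ha b hb
      obtain ⟨y, hy, rfl⟩ := List.mem_map.1 ha
      obtain ⟨z, hz, rfl⟩ := List.mem_map.1 hb
      exact (h4 y (List.mem_cons_of_mem _ hy) z (List.mem_cons_of_mem _ hz)).map (MulAut.conj g).toMonoidHom
    · simpa using h2
    · rw [prod_map_conj, List.prod_cons, ← hg]
      group
  obtain ⟨g, t, a1, a2, a3, a4, a5⟩ := key hx
  obtain ⟨g', t', b1, b2, b3, b4, b5⟩ := key hy
  have h := conj_aux hL hDL hC2 P a1 b1 a2 b2 a3 b3 (by omega) (by omega)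
  rw [← a5, ← b5] at h
  have hg : IsConj x (g * x * g⁻¹) := isConj_iff.2 ⟨g, rfl⟩
  have hg' : IsConj y (g' * y * g'⁻¹) := isConj_iff.2 ⟨g', rfl⟩
  exact hg.trans (h.trans hg'.symm)

omit hK in
/-- No member is in the commutator subgroup. -/
theorem not_mem_comm (hG : IsThreeTranspositionGroup D) (hp : IsPrimitiveUnderConj D) (hL : (commutator G).index = 2) :
    ∀ d ∈ D, d ∉ commutator G := by
  intro d hd hm
  have hn := (inferInstance : (commutator G).Normal)
  have hall : D ⊆ commutator G := by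
    intro e he
    obtain ⟨g, hg⟩ := hp.1 d hd e he
    rw [← hg]
    exact hn.conj_mem _ hm g
  have htop : commutator G = ⊤ := by
    rw [eq_top_iff, ← hG.2.2, Subgroup.closure_le]
    exact hall
  rw [htop, Subgroup.index_top] at hL
  omega

/-- Order two. -/
theorem orderOf_PP (P : Pk4 D d₁ d₂ K) {m : ℕ} {x : G} (hm1 : 1 ≤ m) (hm6 : m ≤ 6) (h : PP D m x) : orderOf x = 2 := by
  haveI : Fact (Nat.Prime 2) := ⟨Nat.prime_two⟩
  obtain ⟨l, h1, h2, h3, h4, rfl⟩ := h
  apply orderOf_eq_prime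
  · rw [pow_two]
    exact prod_sq P.hG.1 h3 h4
  · intro h5
    refine no_rel_six P ⟨h1, h3, h4, h5⟩ ?_ (by omega)
    intro h6
    rw [h6] at h2
    simp at h2
    omega

/-- Existence one level up. -/
theorem exists_PP_up (P : Pk4 D d₁ d₂ K) {m : ℕ} {xb : Gd D d₁ ⧸ Subgroup.center (Gd D d₁)} (h : PP (Dq D d₁) m xb) :
    ∃ x, PP D (m + 1) x := by
  obtain ⟨lb, h1, h2, h3, h4, -⟩ := h
  obtain ⟨l, hl1, rfl⟩ := exists_lift h3
  have hnd : l.Nodup := List.Nodup.of_map _ h1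
  have hcm : ∀ a ∈ l, ∀ b ∈ l, Commute a b := by
    intro a ha b hb
    exact (phi_comm P.hG.1 (hl1 a ha) (hl1 b hb)).1 (h4 _ (List.mem_map_of_mem ha) _ (List.mem_map_of_mem hb))
  have hlen : l.length = m := by simpa using h2
  have hdc : ∀ a ∈ l, Commute d₁ a := fun a ha => (hl1 a ha).2.2
  refine ⟨d₁ * l.prod, d₁ :: l, ?_, by simp [hlen], ?_, ?_, by simp⟩
  · rw [List.nodup_cons]
    exact ⟨fun h => (hl1 d₁ h).2.1 rfl, hnd⟩
  · intro a ha
    rcases List.mem_cons.1 ha with h5 | h5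
    · rw [h5]
      exact P.hd₁
    · exact (hl1 a h5).1
  · intro a ha b hb
    by_cases h7 : a = d₁ <;> by_cases h8 : b = d₁
    · rw [h7, h8]
    · rw [h7]
      exact hdc b ((List.mem_cons.1 hb).resolve_left h8)
    · rw [h8]
      exact (hdc a ((List.mem_cons.1 ha).resolve_left h7)).symm
    · exact hcm a ((List.mem_cons.1 ha).resolve_left h7) b ((List.mem_cons.1 hb).resolve_left h8)

/-- **The four classes, from the three classes one level down.** -/
theorem main_of_level (P : Pk4 D d₁ d₂ K) (hL : (commutator G).index = 2) (hcl : Subgroup.centralizer ({d₁} : Set G) = Subgroup.closure (Da D d₁))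
    (hC1 : ∀ x : Gd D d₁ ⧸ Subgroup.center (Gd D d₁), orderOf x = 2 → ∃ m, 1 ≤ m ∧ m ≤ 3 ∧ PP (Dq D d₁) m x)
    (hC2 : ∀ m, 1 ≤ m → m ≤ 3 → ∀ x y : Gd D d₁ ⧸ Subgroup.center (Gd D d₁), PP (Dq D d₁) m x → PP (Dq D d₁) m y → IsConj x y)
    (hC3 : ∀ m, 1 ≤ m → m ≤ 3 → ∃ x : Gd D d₁ ⧸ Subgroup.center (Gd D d₁), PP (Dq D d₁) m x) :
    (∀ x : G, orderOf x = 2 → ∃ m : ℕ, 1 ≤ m ∧ m ≤ 4 ∧ PP D m x) ∧
    (∀ m : ℕ, 1 ≤ m → m ≤ 4 → (∃ x : G, orderOf x = 2 ∧ PP D m x) ∧ ∀ x y : G, PP D m x → PP D m y → IsConj x y) ∧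
    ∀ (m m' : ℕ) (x : G), 1 ≤ m → m ≤ 4 → 1 ≤ m' → m' ≤ 4 → PP D m x → PP D m' x → m = m' := by
  have hDL := not_mem_comm P.hG P.hp hL
  refine ⟨?_, ?_, ?_⟩
  · intro x hx
    have h1 : x * x = 1 := by
      have := pow_orderOf_eq_one x
      rw [hx, pow_two] at this
      exact this
    have h2 : x ≠ 1 := by
      rintro rfl
      simp at hx
    exact exists_PP hcl hC1 P h1 h2
  · intro m hm1 hm4
    refine ⟨?_, fun x y hx hy => conj_PP hL hDL hC2 P hm1 hm4 hx hy⟩
    by_cases hm : m = 1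
    · subst hm
      have h1 : PP D 1 d₁ := ⟨[d₁], by simp, by simp, by simpa using P.hd₁, by simp, by simp⟩
      exact ⟨d₁, orderOf_PP P (by norm_num) (by norm_num) h1, h1⟩
    · obtain ⟨xb, hxb⟩ := hC3 (m - 1) (by omega) (by omega)
      obtain ⟨x, hx⟩ := exists_PP_up P hxb
      have e : m - 1 + 1 = m := by omega
      rw [e] at hx
      exact ⟨x, orderOf_PP P hm1 (by omega) hx, hx⟩
  · intro m m' x h1 h2 h3 h4 hP hP'
    by_contra hne
    have hlt : m < m' ∨ m' < m := by omega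
    rcases hlt with hlt | hlt
    · exact uniq_aux P hL hDL h1 hlt h4 hP hP'
    · exact uniq_aux P hL hDL h3 hlt h2 hP' hP

end main

end Cfsg.Agent.Lib.ThreeT.F24.InvD
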