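import Cfsg.Agent.Lib.ThreeT.M24a
import Cfsg.Agent.Lib.ThreeT.M22g

/-!
# Each involution of a group of type M(24) commutes with a member of `D`

If an involution `x` has no fixed member, it moves `d₁` to a commuting member `u₂`, and it acts on the members commuting with both:
through the group of type M(22) two levels down, this gives an involutory automorphism preserving the class, which has a fixed member.
-/

set_option autoImplicit false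
set_option linter.unusedSectionVars false
set_option linter.unusedVariables false
set_option linter.style.longLine false
set_option linter.unusedSimpArgs false
set_option linter.unnecessarySimpa false
set_option linter.style.haveILetI false

namespace Cfsg.Agent.Lib.ThreeT.F24.InvC

open Cfsg Cfsg.Agent.Lib.ThreeT.Basic Cfsg.Agent.Lib.ThreeT.Class Cfsg.Agent.Lib.ThreeT.Relations
open Cfsg.Agent.Lib.ThreeT.Rank3 Cfsg.Agent.Lib.ThreeT.Descent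
open Cfsg.Agent.Lib.ThreeT.M23 Cfsg.Agent.Lib.ThreeT.M22 Cfsg.Agent.Lib.ThreeT.M24

variable {G : Type*} [Group G] [Finite G] {D : Set G}
variable {K : Type*} [Field K] [Fintype K] [hK : Fact (Fintype.card K = 4)]
variable {d₁ : G} {d₂ : Gd D d₁ ⧸ Subgroup.center (Gd D d₁)}

/-- The members commuting with both. -/
def YY (D : Set G) (a b : G) : Set G := Da D a ∩ Da D b

section core

variable (P : Pk4 D d₁ d₂ K) {u₂ x : G} (hu₂ : u₂ ∈ Da D d₁) (hphi : phi D d₁ u₂ = d₂) (hxx : x * x = 1)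
  (hxd : x * d₁ * x⁻¹ = u₂)

include hxx hxd in
theorem hxu : x * u₂ * x⁻¹ = d₁ := by
  have hxi : x⁻¹ = x := inv_eq_of_mul_eq_one_left hxx
  rw [← hxd]
  calc x * (x * d₁ * x⁻¹) * x⁻¹ = (x * x) * d₁ * (x * x)⁻¹ := by group
    _ = d₁ := by rw [hxx]; group

theorem conj_YY (hc : ∀ g : G, ∀ e ∈ D, g * e * g⁻¹ ∈ D) (hxx : x * x = 1) (hxd : x * d₁ * x⁻¹ = u₂) {y : G} (hy : y ∈ YY D d₁ u₂) :
    x * y * x⁻¹ ∈ YY D d₁ u₂ := by
  have hxu' := hxu hxx hxd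
  have h1 := mem_Da_conj hc x hy.1
  have h2 := mem_Da_conj hc x hy.2
  rw [hxd] at h1
  rw [hxu'] at h2
  exact ⟨h2, h1⟩

theorem conj_W_mem (hc : ∀ g : G, ∀ e ∈ D, g * e * g⁻¹ ∈ D) (hxx : x * x = 1) (hxd : x * d₁ * x⁻¹ = u₂) {w : G}
    (hw : w ∈ Subgroup.closure (YY D d₁ u₂)) : x * w * x⁻¹ ∈ Subgroup.closure (YY D d₁ u₂) := by
  induction hw using Subgroup.closure_induction with
  | mem y hy => exact Subgroup.subset_closure (conj_YY hc hxx hxd hy)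
  | one => simp
  | mul a b _ _ ha hb =>
    have e : x * (a * b) * x⁻¹ = (x * a * x⁻¹) * (x * b * x⁻¹) := by group
    rw [e]
    exact Subgroup.mul_mem _ ha hb
  | inv a _ ha =>
    have e : x * a⁻¹ * x⁻¹ = (x * a * x⁻¹)⁻¹ := by group
    rw [e]
    exact Subgroup.inv_mem _ ha

/-- Conjugation on `⟨Y⟩`. -/
noncomputable def cw (hc : ∀ g : G, ∀ e ∈ D, g * e * g⁻¹ ∈ D) (hxx : x * x = 1) (hxd : x * d₁ * x⁻¹ = u₂) :
    Subgroup.closure (YY D d₁ u₂) →* Subgroup.closure (YY D d₁ u₂) :=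
  ((MulAut.conj x).toMonoidHom.comp (Subgroup.closure (YY D d₁ u₂)).subtype).codRestrict _ (fun w => conj_W_mem hc hxx hxd w.2)

theorem cw_coe (hc : ∀ g : G, ∀ e ∈ D, g * e * g⁻¹ ∈ D) (hxx : x * x = 1) (hxd : x * d₁ * x⁻¹ = u₂) (w : Subgroup.closure (YY D d₁ u₂)) :
    ((cw hc hxx hxd w : Subgroup.closure (YY D d₁ u₂)) : G) = x * w * x⁻¹ := rfl

theorem cw_cw (hc : ∀ g : G, ∀ e ∈ D, g * e * g⁻¹ ∈ D) (hxx : x * x = 1) (hxd : x * d₁ * x⁻¹ = u₂) (w : Subgroup.closure (YY D d₁ u₂)) :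
    cw hc hxx hxd (cw hc hxx hxd w) = w := by
  apply Subtype.ext
  rw [cw_coe, cw_coe]
  calc x * (x * (w : G) * x⁻¹) * x⁻¹ = (x * x) * (w : G) * (x * x)⁻¹ := by group
    _ = w := by rw [hxx]; group

theorem W_le_H (u₂ : G) : Subgroup.closure (YY D d₁ u₂) ≤ Subgroup.closure (Da D d₁) :=
  Subgroup.closure_mono (fun _ hy => hy.1)

/-- The map of `⟨Y⟩` to the first level. -/
noncomputable def f₁ (u₂ : G) : Subgroup.closure (YY D d₁ u₂) →* (Gd D d₁ ⧸ Subgroup.center (Gd D d₁)) :=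
  (QuotientGroup.mk' (Subgroup.center (Gd D d₁))).comp (Subgroup.inclusion (W_le_H u₂))

theorem f₁_coe {u₂ : G} (w : Subgroup.closure (YY D d₁ u₂)) : f₁ u₂ w = phi D d₁ (w : G) :=
  (phi_eq_of_coe rfl).symm

include P in
theorem f₁_mem (hu₂ : u₂ ∈ Da D d₁) (hphi : phi D d₁ u₂ = d₂) (w : Subgroup.closure (YY D d₁ u₂)) :
    f₁ u₂ w ∈ Subgroup.closure (Da (Dq D d₁) d₂) := by
  obtain ⟨w, hw⟩ := w
  induction hw using Subgroup.closure_induction with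
  | mem y hy =>
    apply Subgroup.subset_closure
    rw [f₁_coe, ← hphi]
    exact (phi_mem_Da P.hG.1 P.hNC hy.1 hu₂).2 ⟨hy.2.2.1, hy.2.2.2⟩
  | one => exact Subgroup.one_mem _
  | mul a b ha hb iha ihb =>
    have e : f₁ u₂ (⟨a * b, Subgroup.mul_mem _ ha hb⟩ : Subgroup.closure (YY D d₁ u₂)) = f₁ u₂ ⟨a, ha⟩ * f₁ u₂ ⟨b, hb⟩ := by
      rw [← map_mul]
      rfl
    rw [e]
    exact Subgroup.mul_mem _ iha ihb
  | inv a ha iha =>
    have e : f₁ u₂ (⟨a⁻¹, Subgroup.inv_mem _ ha⟩ : Subgroup.closure (YY D d₁ u₂)) = (f₁ u₂ ⟨a, ha⟩)⁻¹ := by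
      rw [← map_inv]
      rfl
    rw [e]
    exact Subgroup.inv_mem _ iha

/-- The map to the second level. -/
noncomputable def f₂ (P : Pk4 D d₁ d₂ K) (hu₂ : u₂ ∈ Da D d₁) (hphi : phi D d₁ u₂ = d₂) :
    Subgroup.closure (YY D d₁ u₂) →* Gd (Dq D d₁) d₂ :=
  (f₁ u₂).codRestrict _ (f₁_mem P hu₂ hphi)

/-- The map to the group of type M(22). -/
noncomputable def ff (P : Pk4 D d₁ d₂ K) (hu₂ : u₂ ∈ Da D d₁) (hphi : phi D d₁ u₂ = d₂) :
    Subgroup.closure (YY D d₁ u₂) →* (Gd (Dq D d₁) d₂ ⧸ Subgroup.center (Gd (Dq D d₁) d₂)) :=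
  (QuotientGroup.mk' (Subgroup.center (Gd (Dq D d₁) d₂))).comp (f₂ P hu₂ hphi)

theorem ff_coe (P : Pk4 D d₁ d₂ K) (hu₂ : u₂ ∈ Da D d₁) (hphi : phi D d₁ u₂ = d₂) (w : Subgroup.closure (YY D d₁ u₂)) :
    ff P hu₂ hphi w = phi (Dq D d₁) d₂ (phi D d₁ (w : G)) := by
  symm
  apply phi_eq_of_coe
  exact f₁_coe w

theorem ff_inj (P : Pk4 D d₁ d₂ K) (hu₂ : u₂ ∈ Da D d₁) (hphi : phi D d₁ u₂ = d₂) {a b : Subgroup.closure (YY D d₁ u₂)}
    (ha : (a : G) ∈ YY D d₁ u₂) (hb : (b : G) ∈ YY D d₁ u₂) (h : ff P hu₂ hphi a = ff P hu₂ hphi b) : (a : G) = b := by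
  rw [ff_coe, ff_coe] at h
  have hA : phi D d₁ (a : G) ∈ Da (Dq D d₁) d₂ := by
    rw [← hphi]
    exact (phi_mem_Da P.hG.1 P.hNC ha.1 hu₂).2 ⟨ha.2.2.1, ha.2.2.2⟩
  have hB : phi D d₁ (b : G) ∈ Da (Dq D d₁) d₂ := by
    rw [← hphi]
    exact (phi_mem_Da P.hG.1 P.hNC hb.1 hu₂).2 ⟨hb.2.2.1, hb.2.2.2⟩
  exact phi_inj P.hG.1 P.hNC ha.1 hb.1 (phi_inj P.P.hG.1 P.P.hNC hA hB h)

theorem ff_surj (P : Pk4 D d₁ d₂ K) (hu₂ : u₂ ∈ Da D d₁) (hphi : phi D d₁ u₂ = d₂) : Function.Surjective (ff P hu₂ hphi) := by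
  have h2 : Function.Surjective (f₂ P hu₂ hphi) := by
    rw [← MonoidHom.range_eq_top, eq_top_iff]
    rintro ⟨v, hv⟩ -
    induction hv using Subgroup.closure_induction with
    | mem e he =>
      obtain ⟨y, hy, rfl⟩ := exists_phi he.1
      have h3 : phi D d₁ y ∈ Da (Dq D d₁) (phi D d₁ u₂) := by rw [hphi]; exact he
      obtain ⟨h4, h5⟩ := (phi_mem_Da P.hG.1 P.hNC hy hu₂).1 h3
      have hyY : y ∈ YY D d₁ u₂ := ⟨hy, hy.1, h4, h5⟩
      refine ⟨⟨y, Subgroup.subset_closure hyY⟩, ?_⟩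
      apply Subtype.ext
      exact f₁_coe _
    | one => exact Subgroup.one_mem _
    | mul a b ha hb iha ihb => exact Subgroup.mul_mem _ iha ihb
    | inv a ha iha => exact Subgroup.inv_mem _ iha
  exact (QuotientGroup.mk'_surjective _).comp h2

/-- The kernel consists of central elements. -/
theorem ker_central (P : Pk4 D d₁ d₂ K) (hu₂ : u₂ ∈ Da D d₁) (hphi : phi D d₁ u₂ = d₂)
    {w : Subgroup.closure (YY D d₁ u₂)} (hw : ff P hu₂ hphi w = 1) : w ∈ Subgroup.center (Subgroup.closure (YY D d₁ u₂)) := by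
  have hc := P.hG.2.1
  have hcomm : ∀ y ∈ YY D d₁ u₂, (w : G) * y * (w : G)⁻¹ = y := by
    intro y hy
    have hmem : (w : G) * y * (w : G)⁻¹ ∈ YY D d₁ u₂ := by
      have h1 : Commute d₁ (w : G) := commute_of_mem_closure (fun u hu => hu.1.2.2) w.2
      have h2 : Commute u₂ (w : G) := commute_of_mem_closure (fun u hu => hu.2.2.2) w.2
      have h3 := mem_Da_conj hc (w : G) hy.1
      have h4 := mem_Da_conj hc (w : G) hy.2
      have e1 : (w : G) * d₁ * (w : G)⁻¹ = d₁ := by rw [h1.symm.eq]; group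
      have e2 : (w : G) * u₂ * (w : G)⁻¹ = u₂ := by rw [h2.symm.eq]; group
      rw [e1] at h3
      rw [e2] at h4
      exact ⟨h3, h4⟩
    have hy' : y ∈ Subgroup.closure (YY D d₁ u₂) := Subgroup.subset_closure hy
    have := ff_inj P hu₂ hphi (a := w * ⟨y, hy'⟩ * w⁻¹) (b := ⟨y, hy'⟩) hmem hy (by
      rw [map_mul, map_mul, map_inv, hw]
      simp)
    exact this
  rw [Subgroup.mem_center_iff]
  rintro ⟨g, hg⟩
  apply Subtype.ext
  show g * (w : G) = (w : G) * g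
  have hle : Subgroup.closure (YY D d₁ u₂) ≤ Subgroup.centralizer ({(w : G)} : Set G) := by
    rw [Subgroup.closure_le]
    intro y hy
    rw [SetLike.mem_coe, Subgroup.mem_centralizer_singleton_iff]
    have := hcomm y hy
    calc y * (w : G) = ((w : G) * y * (w : G)⁻¹) * (w : G) := by rw [this]
      _ = (w : G) * y := by group
  exact Subgroup.mem_centralizer_singleton_iff.1 (hle hg)

/-- Central elements are in the kernel. -/
theorem central_ker (P : Pk4 D d₁ d₂ K) (hu₂ : u₂ ∈ Da D d₁) (hphi : phi D d₁ u₂ = d₂)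
    {w : Subgroup.closure (YY D d₁ u₂)} (hw : w ∈ Subgroup.center (Subgroup.closure (YY D d₁ u₂))) : ff P hu₂ hphi w = 1 := by
  have h0 : ff P hu₂ hphi w ∈ Subgroup.center (Gd (Dq D d₁) d₂ ⧸ Subgroup.center (Gd (Dq D d₁) d₂)) := by
    rw [Subgroup.mem_center_iff]
    intro g
    obtain ⟨g', rfl⟩ := ff_surj P hu₂ hphi g
    rw [← map_mul, ← map_mul, (Subgroup.mem_center_iff.1 hw) g']
  rw [P.P.hZ₂, Subgroup.mem_bot] at h0
  exact h0

theorem cw_ker (P : Pk4 D d₁ d₂ K) (hu₂ : u₂ ∈ Da D d₁) (hphi : phi D d₁ u₂ = d₂) (hxx : x * x = 1) (hxd : x * d₁ * x⁻¹ = u₂)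
    {w : Subgroup.closure (YY D d₁ u₂)} (hw : ff P hu₂ hphi w = 1) : ff P hu₂ hphi (cw P.hG.2.1 hxx hxd w) = 1 := by
  apply central_ker
  have h1 := ker_central P hu₂ hphi hw
  rw [Subgroup.mem_center_iff] at h1 ⊢
  intro g
  have h2 := h1 (cw P.hG.2.1 hxx hxd g)
  have h3 := congrArg (cw P.hG.2.1 hxx hxd) h2
  rw [map_mul, map_mul, cw_cw] at h3
  exact h3

open scoped _root_.Classical in
/-- **The core of the argument.** -/
theorem exists_fixed_core (P : Pk4 D d₁ d₂ K) (hu₂ : u₂ ∈ Da D d₁) (hphi : phi D d₁ u₂ = d₂) (hxx : x * x = 1) (hxd : x * d₁ * x⁻¹ = u₂) :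
    ∃ y ∈ D, Commute x y := by
  haveI : Fintype (Gd (Dq D d₁) d₂ ⧸ Subgroup.center (Gd (Dq D d₁) d₂)) := Fintype.ofFinite _
  have hs := ff_surj P hu₂ hphi
  set F := ff P hu₂ hphi with hF
  set c := cw P.hG.2.1 hxx hxd with hc
  let g₀ : { g : Subgroup.closure (YY D d₁ u₂) →* (Gd (Dq D d₁) d₂ ⧸ Subgroup.center (Gd (Dq D d₁) d₂)) // F.ker ≤ g.ker } :=
    ⟨F.comp c, fun w hw => by
      rw [MonoidHom.mem_ker] at hw ⊢
      exact cw_ker P hu₂ hphi hxx hxd hw⟩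
  let φ₀ := F.liftOfSurjective hs g₀
  have hφ₀ : ∀ w, φ₀ (F w) = F (c w) := fun w => F.liftOfRightInverse_comp_apply _ _ g₀ w
  have hφ₂ : ∀ g, φ₀ (φ₀ g) = g := by
    intro g
    obtain ⟨w, rfl⟩ := hs g
    rw [hφ₀, hφ₀, hc, cw_cw]
  let φ : (Gd (Dq D d₁) d₂ ⧸ Subgroup.center (Gd (Dq D d₁) d₂)) ≃* (Gd (Dq D d₁) d₂ ⧸ Subgroup.center (Gd (Dq D d₁) d₂)) :=
    { toFun := φ₀
      invFun := φ₀
      left_inv := hφ₂
      right_inv := hφ₂
      map_mul' := map_mul φ₀ }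
  have hφe : ∀ g, φ g = φ₀ g := fun g => rfl
  have hlift : ∀ d ∈ Dq (Dq D d₁) d₂, ∃ y ∈ YY D d₁ u₂, ∃ hy : y ∈ Subgroup.closure (YY D d₁ u₂), d = F ⟨y, hy⟩ := by
    intro d hd
    obtain ⟨v, hv, rfl⟩ := exists_phi hd
    obtain ⟨y, hy, rfl⟩ := exists_phi hv.1
    have h3 : phi D d₁ y ∈ Da (Dq D d₁) (phi D d₁ u₂) := by rw [hphi]; exact hv
    obtain ⟨h4, h5⟩ := (phi_mem_Da P.hG.1 P.hNC hy hu₂).1 h3
    have hyY : y ∈ YY D d₁ u₂ := ⟨hy, hy.1, h4, h5⟩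
    refine ⟨y, hyY, Subgroup.subset_closure hyY, ?_⟩
    rw [hF, ff_coe]
  have hφD : ∀ d ∈ Dq (Dq D d₁) d₂, φ d ∈ Dq (Dq D d₁) d₂ := by
    intro d hd
    obtain ⟨y, hy, hy', rfl⟩ := hlift d hd
    rw [hφe, hφ₀, hF, ff_coe, hc, cw_coe]
    have hY := conj_YY P.hG.2.1 hxx hxd hy
    apply phi_mem
    rw [← hphi]
    exact (phi_mem_Da P.hG.1 P.hNC hY.1 hu₂).2 ⟨hY.2.2.1, hY.2.2.2⟩
  have hφ2' : ∀ g, φ (φ g) = g := hφ₂
  obtain ⟨a₀, ha₀, -⟩ := P.P.hp₂.2.1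
  obtain ⟨d, hd, hfix⟩ := exists_fixed_member_aux P.P.hG₂ P.P.hp₂ P.h22 P.P.data₂ φ hφD hφ2' ha₀
  obtain ⟨y, hy, hy', rfl⟩ := hlift d hd
  rw [hφe, hφ₀] at hfix
  have h7 := ff_inj P hu₂ hphi (a := c ⟨y, hy'⟩) (b := ⟨y, hy'⟩) (conj_YY P.hG.2.1 hxx hxd hy) hy hfix
  refine ⟨y, hy.1.1, ?_⟩
  have h8 : x * y * x⁻¹ = y := h7
  show x * y = y * x
  calc x * y = (x * y * x⁻¹) * x := by group
    _ = y * x := by rw [h8]

end core

/-- **Each involution commutes with a member of `D`.** -/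
theorem exists_comm (P : Pk4 D d₁ d₂ K) {x : G} (hxx : x * x = 1) : ∃ y ∈ D, Commute x y := by
  by_contra hcon
  push Not at hcon
  have hc := P.hG.2.1
  have hD := P.hG.1
  have hxi : x⁻¹ = x := inv_eq_of_mul_eq_one_left hxx
  have hd₁ := P.hd₁
  have ha' : x * d₁ * x⁻¹ ∈ D := hc x d₁ hd₁
  have hne : x * d₁ * x⁻¹ ≠ d₁ := by
    intro h
    apply hcon d₁ hd₁
    show x * d₁ = d₁ * x
    calc x * d₁ = (x * d₁ * x⁻¹) * x := by group
      _ = d₁ * x := by rw [h]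
  have hcomm : Commute d₁ (x * d₁ * x⁻¹) := by
    by_contra hnc
    set a' := x * d₁ * x⁻¹ with ha'd
    have hb := braid hD hd₁ ha' hnc
    have hdi := inv_of_mem hD hd₁
    have hbD : d₁ * a' * d₁ ∈ D := by
      have := hc d₁ a' ha'
      rwa [hdi] at this
    apply hcon _ hbD
    have hxa : x * a' * x⁻¹ = d₁ := by
      rw [ha'd]
      calc x * (x * d₁ * x⁻¹) * x⁻¹ = (x * x) * d₁ * (x * x)⁻¹ := by group
        _ = d₁ := by rw [hxx]; group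
    have hxd : x * d₁ * x⁻¹ = a' := rfl
    show x * (d₁ * a' * d₁) = (d₁ * a' * d₁) * x
    calc x * (d₁ * a' * d₁) = (x * d₁ * x⁻¹) * (x * a' * x⁻¹) * (x * d₁ * x⁻¹) * x := by group
      _ = a' * d₁ * a' * x := by rw [hxd, hxa]
      _ = (d₁ * a' * d₁) * x := by rw [hb]
  have hmem : x * d₁ * x⁻¹ ∈ Da D d₁ := ⟨ha', hne, hcomm⟩
  obtain ⟨u₂, hu₂, hphi⟩ := exists_phi P.P.hd₁
  obtain ⟨g, hg, hge⟩ := exists_conj_of_mem_Da P.hG P.hp hd₁ hmem hu₂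
  have hgd : Commute d₁ g := commute_of_mem_closure (fun u hu => hu.2.2) hg
  have hx' : (g * x * g⁻¹) * (g * x * g⁻¹) = 1 := by
    calc (g * x * g⁻¹) * (g * x * g⁻¹) = g * (x * x) * g⁻¹ := by group
      _ = 1 := by rw [hxx]; group
  have hxd' : (g * x * g⁻¹) * d₁ * (g * x * g⁻¹)⁻¹ = u₂ := by
    rw [← hge]
    have e : g⁻¹ * d₁ * g = d₁ := by rw [mul_assoc, hgd.eq]; group
    calc (g * x * g⁻¹) * d₁ * (g * x * g⁻¹)⁻¹ = g * x * (g⁻¹ * d₁ * g) * x⁻¹ * g⁻¹ := by group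
      _ = g * (x * d₁ * x⁻¹) * g⁻¹ := by rw [e]; group
  obtain ⟨y, hy, hxy⟩ := exists_fixed_core P hu₂ hphi hx' hxd'
  apply hcon (g⁻¹ * y * g)
  · have := hc g⁻¹ y hy
    rwa [inv_inv] at this
  · have h1 : (g * x * g⁻¹) * y = y * (g * x * g⁻¹) := hxy
    show x * (g⁻¹ * y * g) = (g⁻¹ * y * g) * x
    calc x * (g⁻¹ * y * g) = g⁻¹ * ((g * x * g⁻¹) * y) * g := by group
      _ = g⁻¹ * (y * (g * x * g⁻¹)) * g := by rw [h1]
      _ = (g⁻¹ * y * g) * x := by group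

end Cfsg.Agent.Lib.ThreeT.F24.InvC
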